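import Cfsg.Agent.H544.KKL.Lift

/-!
# S4546, CLASSICAL 0, part 2: the group of signs on the weight spaces of `D₀ ≅ 2³`
-/

set_option autoImplicit false
set_option linter.unusedSectionVars false

namespace Cfsg.Agent.H544.KKL
open Cfsg Cfsg.Agent.H613.KKL
open scoped Matrix
open Classical

/-! ### Idempotents of an elementary abelian group of order 8 -/

section Alg
variable {E F A : Type*} [CommGroup E] [Finite E] [Field F] [Ring A] [Algebra F A]

theorem hasEnough (h2 : (2 : F) ≠ 0) (hE : ∀ e : E, e * e = 1) : HasEnoughRootsOfUnity F (Monoid.exponent E) := by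
  have h : HasEnoughRootsOfUnity F 2 := by
    refine ⟨⟨-1, ?_⟩, inferInstance⟩
    obtain ⟨p, hp⟩ := CharP.exists F
    exact IsPrimitiveRoot.neg_one p (fun h => by
      subst h
      exact h2 (CharP.cast_eq_zero F 2))
  exact HasEnoughRootsOfUnity.of_dvd F (Monoid.exponent_dvd_of_forall_pow_eq_one fun e => by rw [sq]; exact hE e)

theorem char_sq (hE : ∀ e : E, e * e = 1) (lam : E →* Fˣ) (d : E) : lam d = 1 ∨ lam d = -1 := by
  have h : (lam d) * (lam d) = 1 := by rw [← map_mul, hE, map_one]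
  have h' : ((lam d : Fˣ) : F) * ((lam d : Fˣ) : F) = 1 := by rw [← Units.val_mul, h, Units.val_one]
  rcases mul_self_eq_one_iff.1 h' with h | h
  · left; exact Units.ext h
  · right; exact Units.ext (by rw [h]; rfl)

theorem char_inv (hE : ∀ e : E, e * e = 1) (lam : E →* Fˣ) : lam⁻¹ = lam := by
  ext d
  rcases char_sq hE lam d with h | h
  · rw [MonoidHom.inv_apply, h, inv_one]
  · rw [MonoidHom.inv_apply, h, inv_neg_one]

variable [Fintype E] [Fintype (E →* Fˣ)]

variable (σ : E →* A)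

/-- the projection on the weight space of `lam` -/
noncomputable def ep (lam : E →* Fˣ) : A := (8⁻¹ : F) • ∑ d : E, ((lam d : Fˣ) : F) • σ d

variable (h2 : (2 : F) ≠ 0) (hE : ∀ e : E, e * e = 1) (hcard : Nat.card E = 8)
include h2 hE hcard

theorem card_char : Fintype.card (E →* Fˣ) = 8 := by
  have _ := hasEnough (E := E) h2 hE
  rw [← Nat.card_eq_fintype_card, CommGroup.card_monoidHom_of_hasEnoughRootsOfUnity E F, hcard]

omit hcard in
theorem sum_char (d : E) : ∑ lam : E →* Fˣ, ((lam d : Fˣ) : F) = if d = 1 then (Fintype.card (E →* Fˣ) : F) else 0 := by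
  split_ifs with hd
  · rw [hd]
    simp
  · have _ := hasEnough (E := E) h2 hE
    obtain ⟨mu, hmu⟩ := CommGroup.exists_apply_ne_one_of_hasEnoughRootsOfUnity E F hd
    have h1 : ((mu d : Fˣ) : F) * ∑ lam : E →* Fˣ, ((lam d : Fˣ) : F) = ∑ lam : E →* Fˣ, ((lam d : Fˣ) : F) := by
      rw [Finset.mul_sum]
      exact Fintype.sum_equiv (Equiv.mulLeft mu) _ _ fun lam => by
        rw [Equiv.coe_mulLeft, MonoidHom.mul_apply, Units.val_mul]
    have h3 : (((mu d : Fˣ) : F) - 1) * ∑ lam : E →* Fˣ, ((lam d : Fˣ) : F) = 0 := by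
      rw [sub_mul, h1, one_mul, sub_self]
    rcases mul_eq_zero.1 h3 with h | h
    · exact absurd (Units.ext (sub_eq_zero.1 h)) hmu
    · exact h

omit h2 hE hcard [Fintype (E →* Fˣ)] in
theorem sum_elt (lam : E →* Fˣ) : ∑ d : E, ((lam d : Fˣ) : F) = if lam = 1 then (Fintype.card E : F) else 0 := by
  split_ifs with hl
  · rw [hl]
    simp
  · obtain ⟨d, hd⟩ : ∃ d, lam d ≠ 1 := by
      by_contra hcon
      push Not at hcon
      exact hl (MonoidHom.ext hcon)
    have h1 : ((lam d : Fˣ) : F) * ∑ e : E, ((lam e : Fˣ) : F) = ∑ e : E, ((lam e : Fˣ) : F) := by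
      rw [Finset.mul_sum]
      exact Fintype.sum_equiv (Equiv.mulLeft d) _ _ fun e => by
        rw [Equiv.coe_mulLeft, map_mul, Units.val_mul]
    have h3 : (((lam d : Fˣ) : F) - 1) * ∑ e : E, ((lam e : Fˣ) : F) = 0 := by
      rw [sub_mul, h1, one_mul, sub_self]
    rcases mul_eq_zero.1 h3 with h | h
    · exact absurd (Units.ext (sub_eq_zero.1 h)) hd
    · exact h

omit [Finite E] [Fintype E] [Fintype (E →* Fˣ)] hE hcard in
theorem eight_ne : (8 : F) ≠ 0 := by
  have : (8 : F) = 2 * 2 * 2 := by norm_num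
  rw [this]
  exact mul_ne_zero (mul_ne_zero h2 h2) h2

theorem ep_sum : ∑ lam : E →* Fˣ, ep σ lam = 1 := by
  simp only [ep]
  rw [← Finset.smul_sum, Finset.sum_comm]
  have : ∀ d : E, ∑ lam : E →* Fˣ, ((lam d : Fˣ) : F) • σ d = (if d = 1 then (8 : F) else 0) • σ d := fun d => by
    rw [← Finset.sum_smul, sum_char h2 hE, card_char h2 hE hcard]
    norm_num
  rw [Finset.sum_congr rfl fun d _ => this d, Finset.sum_eq_single 1]
  · rw [if_pos rfl, map_one, smul_smul, inv_mul_cancel₀ (eight_ne h2), one_smul]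
  · intro d _ hd
    rw [if_neg hd, zero_smul]
  · intro h
    exact absurd (Finset.mem_univ _) h

omit [Fintype (E →* Fˣ)] h2 hcard in
theorem mul_ep (d : E) (lam : E →* Fˣ) : σ d * ep σ lam = ((lam d : Fˣ) : F) • ep σ lam := by
  rw [ep, mul_smul_comm, Finset.mul_sum, smul_comm (((lam d : Fˣ) : F)) (8⁻¹ : F)]
  congr 1
  rw [Finset.smul_sum]
  have h1 := Equiv.sum_comp (Equiv.mulLeft d) (fun e : E => ((lam d : Fˣ) : F) • (((lam e : Fˣ) : F) • σ e))
  rw [← h1]
  refine Finset.sum_congr rfl fun e _ => ?_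
  have e1 : (Equiv.mulLeft d) e = d * e := rfl
  rw [e1, mul_smul_comm, map_mul σ, smul_smul, map_mul lam, Units.val_mul, ← mul_assoc, ← Units.val_mul,
    ← map_mul lam, hE, map_one, Units.val_one, one_mul]

omit [Fintype (E →* Fˣ)] h2 in
theorem ep_mul_ep (h2 : (2 : F) ≠ 0) (mu lam : E →* Fˣ) :
    ep σ mu * ep σ lam = if mu = lam then ep σ lam else 0 := by
  have h1 : ep σ mu * ep σ lam = (8⁻¹ : F) • ∑ d : E, ((mu d : Fˣ) : F) • (σ d * ep σ lam) := by
    conv_lhs => rw [ep]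
    rw [smul_mul_assoc, Finset.sum_mul]
    simp only [smul_mul_assoc]
  rw [h1]
  have h3 : ∑ d : E, ((mu d : Fˣ) : F) • (σ d * ep σ lam) = (∑ d : E, (((mu * lam) d : Fˣ) : F)) • ep σ lam := by
    rw [Finset.sum_smul]
    refine Finset.sum_congr rfl fun d _ => ?_
    rw [mul_ep σ hE, smul_smul, MonoidHom.mul_apply, Units.val_mul]
  rw [h3, sum_elt]
  have h4 : mu * lam = 1 ↔ mu = lam := by
    constructor
    · intro h
      refine MonoidHom.ext fun d => ?_
      have h5 : mu d * lam d = 1 := DFunLike.congr_fun h d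
      rcases char_sq hE lam d with h6 | h6 <;> rcases char_sq hE mu d with h7 | h7 <;> rw [h6, h7] at h5 ⊢
      · simpa using h5
      · simpa using h5.symm
    · rintro rfl
      refine MonoidHom.ext fun d => ?_
      change mu d * mu d = 1
      rw [← map_mul, hE, map_one]
  by_cases h : mu = lam
  · rw [if_pos h, if_pos (h4.2 h), smul_smul, ← Nat.card_eq_fintype_card, hcard]
    have : (8⁻¹ : F) * ((8 : ℕ) : F) = 1 := by
      rw [Nat.cast_ofNat]
      exact inv_mul_cancel₀ (eight_ne h2)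
    rw [this, one_smul]
  · rw [if_neg h, if_neg (fun h' => h (h4.1 h')), zero_smul, smul_zero]

/-- the element acting by the scalar `c lam` on the weight space of `lam` -/
noncomputable def SS (c : (E →* Fˣ) → F) : A := ∑ lam : E →* Fˣ, c lam • ep σ lam

theorem SS_mul_ep (c : (E →* Fˣ) → F) (mu : E →* Fˣ) : SS σ c * ep σ mu = c mu • ep σ mu := by
  rw [SS, Finset.sum_mul, Finset.sum_eq_single mu]
  · rw [smul_mul_assoc, ep_mul_ep σ hE hcard h2, if_pos rfl]
  · intro lam _ hl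
    rw [smul_mul_assoc, ep_mul_ep σ hE hcard h2, if_neg hl, smul_zero]
  · intro h
    exact absurd (Finset.mem_univ _) h

theorem SS_mul (c c' : (E →* Fˣ) → F) : SS σ c * SS σ c' = SS σ (fun lam => c lam * c' lam) := by
  have h1 : SS σ c' = ∑ lam : E →* Fˣ, c' lam • ep σ lam := rfl
  rw [h1, Finset.mul_sum]
  conv_rhs => rw [SS]
  refine Finset.sum_congr rfl fun lam _ => ?_
  rw [mul_smul_comm, SS_mul_ep σ h2 hE hcard, smul_smul, mul_comm]

theorem SS_one : SS σ (fun _ => (1 : F)) = 1 := by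
  rw [SS]
  simp only [one_smul]
  exact ep_sum σ h2 hE hcard

/-- the group of signs -/
noncomputable def Phi : ((E →* Fˣ) → ℤˣ) →* A where
  toFun ε := SS σ (fun lam => ((ε lam : ℤ) : F))
  map_one' := by
    have : (fun lam : E →* Fˣ => ((((1 : (E →* Fˣ) → ℤˣ) lam : ℤˣ) : ℤ) : F)) = fun _ => (1 : F) := by
      ext lam
      simp
    rw [this]
    exact SS_one σ h2 hE hcard
  map_mul' ε ε' := by
    rw [SS_mul σ h2 hE hcard]
    congr 1
    ext lam
    simp

theorem Phi_apply (ε : (E →* Fˣ) → ℤˣ) : Phi σ h2 hE hcard ε = SS σ (fun lam => ((ε lam : ℤ) : F)) := rfl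

theorem Phi_eq_one {ε : (E →* Fˣ) → ℤˣ} (h : Phi σ h2 hE hcard ε = 1) {lam : E →* Fˣ} (hl : ep σ lam ≠ 0) :
    ε lam = 1 := by
  have h1 := SS_mul_ep σ h2 hE hcard (fun lam => ((ε lam : ℤ) : F)) lam
  rw [← Phi_apply σ h2 hE hcard, h, one_mul] at h1
  rcases Int.units_eq_one_or (ε lam) with h3 | h3
  · exact h3
  · exfalso
    rw [h3] at h1
    apply hl
    have h4 : (2 : F) • ep σ lam = 0 := by
      have h5 : ep σ lam = -ep σ lam := by
        conv_lhs => rw [h1]
        simp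
      rw [two_smul]
      nth_rewrite 2 [h5]
      exact add_neg_cancel _
    exact (smul_eq_zero_iff_right h2).1 h4

/-- if all nontrivial weights occur, the group of signs has order at least `2⁷` -/
theorem card_range_Phi (hne : ∀ lam : E →* Fˣ, lam ≠ 1 → ep σ lam ≠ 0) :
    128 ≤ Nat.card (MonoidHom.toHomUnits (Phi σ h2 hE hcard)).range := by
  set Ψ := MonoidHom.toHomUnits (Phi σ h2 hE hcard) with hΨ
  have h1 := Subgroup.card_mul_index Ψ.ker
  rw [Subgroup.index_ker] at h1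
  have h3 : Nat.card ((E →* Fˣ) → ℤˣ) = 256 := by
    rw [Nat.card_eq_fintype_card, Fintype.card_fun, card_char h2 hE hcard, Fintype.card_units_int]
    norm_num
  have h4 : Nat.card Ψ.ker ≤ 2 := by
    have h5 : Nat.card Ψ.ker ≤ Nat.card ℤˣ := by
      apply Nat.card_le_card_of_injective (fun ε : Ψ.ker => ε.1 1)
      intro ε ε' h
      apply Subtype.ext
      funext lam
      by_cases hl : lam = 1
      · rw [hl]; exact h
      · have e : ∀ ε : Ψ.ker, ε.1 lam = 1 := fun ε => by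
          apply Phi_eq_one σ h2 hE hcard _ (hne lam hl)
          have := congrArg Units.val (MonoidHom.mem_ker.1 ε.2)
          exact this
        rw [e, e]
    rwa [Nat.card_eq_fintype_card (α := ℤˣ), Fintype.card_units_int] at h5
  rw [h3] at h1
  by_contra hcon
  push Not at hcon
  have : Nat.card Ψ.ker * Nat.card Ψ.range ≤ 2 * 127 := Nat.mul_le_mul h4 (by omega)
  omega

/-! ### The automorphism `y` -/

/-- all nontrivial weights occur -/
theorem ep_ne_zero (hσ : Function.Injective σ) (Y : Aˣ) (α : MulAut E) (hY : ∀ d : E, (Y : A) * σ d = σ (α d) * (Y : A))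
    (htr : ∀ a b : E, a ≠ 1 → b ≠ 1 → ∃ k : ℕ, (α ^ k) a = b) {m : ℕ} (hm : α ^ 7 ^ m = 1) (lam : E →* Fˣ)
    (hl : lam ≠ 1) : ep σ lam ≠ 0 := by
  -- the permutation of the characters
  let β : (E →* Fˣ) → (E →* Fˣ) := fun mu => mu.comp (α⁻¹ : MulAut E).toMonoidHom
  have hβ : ∀ mu : E →* Fˣ, (Y : A) * ep σ mu = ep σ (β mu) * (Y : A) := by
    intro mu
    rw [ep, mul_smul_comm, Finset.mul_sum, ep, smul_mul_assoc, Finset.sum_mul]
    congr 1
    rw [← Equiv.sum_comp α.toEquiv (fun d : E => (((β mu) d : Fˣ) : F) • σ d * (Y : A))]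
    refine Finset.sum_congr rfl fun d _ => ?_
    have e1 : α.toEquiv d = α d := rfl
    have e2 : (β mu) (α d) = mu d := by
      change mu ((α⁻¹ : MulAut E) (α d)) = mu d
      rw [MulAut.inv_apply_self]
    rw [e1, e2, mul_smul_comm, hY, smul_mul_assoc]
  have hβne : ∀ mu : E →* Fˣ, ep σ mu ≠ 0 → ep σ (β mu) ≠ 0 := by
    intro mu hmu h
    apply hmu
    have := hβ mu
    rw [h, zero_mul] at this
    have h3 : ((Y⁻¹ : Aˣ) : A) * ((Y : A) * ep σ mu) = 0 := by rw [this, mul_zero]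
    rwa [← mul_assoc, Units.inv_mul, one_mul] at h3
  have hβit : ∀ (k : ℕ) (mu : E →* Fˣ) (d : E), (β^[k] mu) d = mu ((α ^ k)⁻¹ d) := by
    intro k
    induction k with
    | zero => intro mu d; simp
    | succ k ih =>
      intro mu d
      rw [Function.iterate_succ_apply, ih]
      change mu ((α⁻¹ : MulAut E) ((α ^ k)⁻¹ d)) = _
      rw [← MulAut.mul_apply, ← mul_inv_rev, ← pow_succ]
  -- some nontrivial weight occurs
  obtain ⟨mu, hmu1, hmu⟩ : ∃ mu : E →* Fˣ, mu ≠ 1 ∧ ep σ mu ≠ 0 := by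
    by_contra hcon
    push Not at hcon
    have h1 : ep σ (1 : E →* Fˣ) = 1 := by
      rw [← ep_sum σ h2 hE hcard]
      symm
      apply Finset.sum_eq_single
      · intro mu _ hmu
        exact hcon mu hmu
      · intro h
        exact absurd (Finset.mem_univ _) h
    have h3 : ∀ d : E, σ d = 1 := fun d => by
      have := mul_ep σ hE d (1 : E →* Fˣ)
      rw [h1, mul_one] at this
      rw [this]
      simp
    have h4 : Nat.card E ≤ 1 := by
      rw [Finite.card_le_one_iff_subsingleton]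
      exact ⟨fun a b => hσ ((h3 a).trans (h3 b).symm)⟩
    omega
  have hper : Function.IsPeriodicPt β (7 ^ m) mu := by
    refine MonoidHom.ext fun d => ?_
    rw [hβit, hm, inv_one]
    rfl
  have hdvd := hper.minimalPeriod_dvd
  obtain ⟨j, hj, hj'⟩ := (Nat.dvd_prime_pow (by norm_num : Nat.Prime 7)).1 hdvd
  rcases Nat.eq_zero_or_pos j with h0 | hpos
  · exfalso
    rw [h0, pow_zero, Function.minimalPeriod_eq_one_iff_isFixedPt] at hj'
    have hfix : ∀ k : ℕ, ∀ d : E, mu ((α ^ k)⁻¹ d) = mu d := fun k d => by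
      rw [← hβit, Function.iterate_fixed hj']
    have hconst : ∀ a b : E, a ≠ 1 → b ≠ 1 → mu a = mu b := by
      intro a b ha hb
      obtain ⟨k, hk⟩ := htr a b ha hb
      have := hfix k b
      rw [← hk] at this
      rw [← hk, ← this]
      congr 1
      exact (MulAut.inv_apply_self _ (α ^ k) a).symm
    obtain ⟨a, ha⟩ : ∃ a, mu a ≠ 1 := by
      by_contra hcon
      push Not at hcon
      exact hmu1 (MonoidHom.ext hcon)
    have ha1 : a ≠ 1 := fun h => ha (by rw [h, map_one])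
    obtain ⟨b, -, hb⟩ := exists_notMem_finset (X := E) (D := ⊤) (by rw [Subgroup.card_top]; exact hcard) {1, a} (by
      have := Finset.card_le_two (a := (1 : E)) (b := a)
      omega)
    simp only [Finset.mem_insert, Finset.mem_singleton, not_or] at hb
    have hab : a * b ≠ 1 := fun h => hb.2 (by
      rw [← mul_right_inj a, h, hE])
    have e1 := hconst (a * b) a hab ha1
    rw [map_mul, ← hconst a b ha1 hb.1] at e1
    have e2 : mu a * mu a = 1 := by rw [← map_mul, hE, map_one]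
    rw [e2] at e1
    exact ha e1.symm
  · have h7 : 7 ≤ Function.minimalPeriod β mu := by
      rw [hj']
      calc 7 = 7 ^ 1 := by norm_num
        _ ≤ 7 ^ j := Nat.pow_le_pow_right (by norm_num) hpos
    have hone : ∀ k : ℕ, β^[k] mu ≠ 1 := by
      intro k h
      apply hmu1
      refine MonoidHom.ext fun d => ?_
      have := DFunLike.congr_fun h ((α ^ k) d)
      rw [hβit, MulAut.inv_apply_self] at this
      exact this
    have hkne : ∀ k : ℕ, ep σ (β^[k] mu) ≠ 0 := by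
      intro k
      induction k with
      | zero => exact hmu
      | succ k ih =>
        rw [Function.iterate_succ_apply']
        exact hβne _ ih
    let f : Fin 7 → {nu : E →* Fˣ // nu ≠ 1} := fun k => ⟨β^[(k : ℕ)] mu, hone k⟩
    have hf : Function.Injective f := by
      intro a b hab
      have h3 : β^[(a : ℕ)] mu = β^[(b : ℕ)] mu := congrArg Subtype.val hab
      have := (Function.iterate_eq_iterate_iff_of_lt_minimalPeriod (lt_of_lt_of_le a.2 h7)
        (lt_of_lt_of_le b.2 h7)).1 h3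
      exact Fin.ext this
    have hcard7 : Fintype.card {nu : E →* Fˣ // nu ≠ 1} = 7 := by
      rw [Fintype.card_subtype_compl, card_char h2 hE hcard, Fintype.card_subtype_eq]
    have hbij : Function.Bijective f := by
      rw [Fintype.bijective_iff_injective_and_card]
      exact ⟨hf, by rw [hcard7, Fintype.card_fin]⟩
    obtain ⟨k, hk⟩ := hbij.2 ⟨lam, hl⟩
    have h3 : β^[(k : ℕ)] mu = lam := congrArg Subtype.val hk
    rw [← h3]
    exact hkne k

end Alg

/-! ### The forms -/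

section Form
variable {E F ι : Type*} [CommGroup E] [Finite E] [Field F] [Fintype ι] [DecidableEq ι] [Fintype E]
  [Fintype (E →* Fˣ)]

theorem form_of_SS (h2 : (2 : F) ≠ 0) (hE : ∀ e : E, e * e = 1) (hcard : Nat.card E = 8) (σ : E →* Matrix ι ι F)
    (f : (ι → F) → (ι → F) → F) (hl : ∀ u v w, f (u + v) w = f u w + f v w) (hr : ∀ u v w, f u (v + w) = f u v + f u w)
    (hf : ∀ (d : E) (u v : ι → F), f (σ d *ᵥ u) (σ d *ᵥ v) = f u v) (ε : (E →* Fˣ) → ℤˣ) (u v : ι → F) :
    f (SS σ (fun lam => ((ε lam : ℤ) : F)) *ᵥ u) (SS σ (fun lam => ((ε lam : ℤ) : F)) *ᵥ v) = f u v := by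
  let fa : (ι → F) →+ (ι → F) →+ F := AddMonoidHom.mk' (fun u => AddMonoidHom.mk' (f u) (hr u)) fun u v =>
    AddMonoidHom.ext fun w => hl u v w
  have hfa : ∀ u v, f u v = fa u v := fun _ _ => rfl
  have hneg : ∀ u v, f (-u) v = -f u v := fun u v => by rw [hfa, hfa, map_neg]; rfl
  have hneg' : ∀ u v, f u (-v) = -f u v := fun u v => by rw [hfa, hfa, map_neg]
  -- different weight spaces are orthogonal
  have horth : ∀ (lam mu : E →* Fˣ), lam ≠ mu → ∀ u v, f (ep σ lam *ᵥ u) (ep σ mu *ᵥ v) = 0 := by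
    intro lam mu hne u v
    obtain ⟨d, hd⟩ : ∃ d, lam d ≠ mu d := by
      by_contra hcon
      push Not at hcon
      exact hne (MonoidHom.ext hcon)
    have h1 := hf d (ep σ lam *ᵥ u) (ep σ mu *ᵥ v)
    rw [Matrix.mulVec_mulVec, Matrix.mulVec_mulVec, mul_ep σ hE, mul_ep σ hE, Matrix.smul_mulVec,
      Matrix.smul_mulVec] at h1
    have h3 : (2 : F) * f (ep σ lam *ᵥ u) (ep σ mu *ᵥ v) = 0 := by
      rcases char_sq hE lam d with h | h <;> rcases char_sq hE mu d with h' | h' <;> rw [h, h'] at h1 hd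
      · exact absurd rfl hd
      · rw [Units.val_one, one_smul, Units.val_neg, Units.val_one, neg_one_smul, hneg'] at h1
        linear_combination -h1
      · rw [Units.val_one, one_smul, Units.val_neg, Units.val_one, neg_one_smul, hneg] at h1
        linear_combination -h1
      · exact absurd rfl hd
    exact (mul_eq_zero.1 h3).resolve_left h2
  have hsplit : ∀ (c : (E →* Fˣ) → F) (u : ι → F), SS σ c *ᵥ u = ∑ lam : E →* Fˣ, c lam • (ep σ lam *ᵥ u) := by
    intro c u
    rw [SS, Matrix.sum_mulVec]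
    refine Finset.sum_congr rfl fun lam _ => ?_
    rw [Matrix.smul_mulVec]
  have hexp : ∀ (c : (E →* Fˣ) → F) (hc : ∀ lam, c lam = 1 ∨ c lam = -1) (u v : ι → F),
      f (SS σ c *ᵥ u) (SS σ c *ᵥ v) = ∑ lam : E →* Fˣ, f (ep σ lam *ᵥ u) (ep σ lam *ᵥ v) := by
    intro c hc u v
    have horth' : ∀ (lam mu : E →* Fˣ), lam ≠ mu → f (c lam • (ep σ lam *ᵥ u)) (c mu • (ep σ mu *ᵥ v)) = 0 := by
      intro lam mu hne
      rcases hc lam with h | h <;> rcases hc mu with h' | h' <;> rw [h, h'] <;>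
        simp only [one_smul, neg_smul, hneg, hneg', horth lam mu hne, neg_zero]
    rw [hsplit, hsplit, hfa]
    have e1 : fa (∑ lam : E →* Fˣ, c lam • (ep σ lam *ᵥ u)) = ∑ lam : E →* Fˣ, fa (c lam • (ep σ lam *ᵥ u)) :=
      map_sum fa _ _
    rw [e1, AddMonoidHom.finsetSum_apply]
    refine Finset.sum_congr rfl fun lam _ => ?_
    rw [map_sum, Finset.sum_eq_single lam]
    · rw [← hfa]
      rcases hc lam with h | h <;> rw [h] <;> simp only [one_smul, neg_smul, hneg, hneg', neg_neg]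
    · intro mu _ hmu
      exact horth' lam mu (Ne.symm hmu)
    · intro h
      exact absurd (Finset.mem_univ _) h
  rw [hexp _ (fun lam => by
    rcases Int.units_eq_one_or (ε lam) with h | h
    · left; rw [h]; simp
    · right; rw [h]; simp), ← hexp (fun _ => (1 : F)) (fun _ => Or.inl rfl), SS_one σ h2 hE hcard, Matrix.one_mulVec,
    Matrix.one_mulVec]

end Form

/-! ### The main theorem -/

/-- counting lemma: `f : T → C` with kernel inside `R` and image of order at most 4 -/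
theorem card_inf_ge {G C : Type*} [Group G] [Group C] (T R : Subgroup G) [Finite T] (hcard : 128 ≤ Nat.card T)
    (f : T →* C) (hf : Nat.card f.range ≤ 4) (hk : ∀ t : T, f t = 1 → (t : G) ∈ R) : 32 ≤ Nat.card ↥(T ⊓ R) := by
  have h1 := Subgroup.card_mul_index f.ker
  rw [Subgroup.index_ker] at h1
  have h3 : Nat.card f.ker ≤ Nat.card ↥(T ⊓ R) := by
    have _ : Finite ↥(T ⊓ R) := Finite.of_injective _ (Subgroup.inclusion_injective (inf_le_left : T ⊓ R ≤ T))
    apply Nat.card_le_card_of_injective (fun t : f.ker => (⟨t.1.1, t.1.2, hk t.1 t.2⟩ : ↥(T ⊓ R)))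
    intro a b hab
    exact Subtype.ext (Subtype.ext (congrArg (fun z : ↥(T ⊓ R) => (z : G)) hab))
  by_contra hcon
  push Not at hcon
  have : Nat.card f.ker * Nat.card f.range ≤ 31 * 4 := Nat.mul_le_mul (by omega) hf
  omega

/-- the group of signs in terms of an embedding `i : E → X` -/
theorem exists_T {X : Type*} [Group X] {ι F : Type*} [Fintype ι] [DecidableEq ι] [Field F] (h2 : (2 : F) ≠ 0)
    {E : Type*} [CommGroup E] [Finite E] (hE : ∀ e : E, e * e = 1) (hcard : Nat.card E = 8) (i : E →* X)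
    (hi : Function.Injective i) (ρ : X →* Matrix.GeneralLinearGroup ι F) (hρ : Function.Injective ρ) (y0 : X)
    (α : MulAut E) (hα : ∀ d : E, i (α d) = y0 * i d * y0⁻¹)
    (htr : ∀ a b : E, a ≠ 1 → b ≠ 1 → ∃ k : ℕ, (α ^ k) a = b) {m : ℕ} (hαm : α ^ 7 ^ m = 1) :
    ∃ T : Subgroup (Matrix.GeneralLinearGroup ι F), Finite T ∧ 128 ≤ Nat.card T ∧ (∀ t ∈ T, t * t = 1) ∧
      (∀ f : (ι → F) → (ι → F) → F, (∀ u v w, f (u + v) w = f u w + f v w) → (∀ u v w, f u (v + w) = f u v + f u w) →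
        (∀ (g : X) (u v : ι → F), f ((ρ g : Matrix ι ι F) *ᵥ u) ((ρ g : Matrix ι ι F) *ᵥ v) = f u v) →
        ∀ t ∈ T, ∀ u v : ι → F, f ((t : Matrix ι ι F) *ᵥ u) ((t : Matrix ι ι F) *ᵥ v) = f u v) ∧
      ∀ x0 : X, (∀ d : E, i d * x0 = x0 * i d) → ∀ t ∈ T, t * ρ x0 = ρ x0 * t := by
  have fE : Fintype E := Fintype.ofFinite _
  have finC : Finite (E →* Fˣ) := by
    have _ := hasEnough (E := E) (F := F) h2 hE
    exact Nat.finite_of_card_ne_zero (by
      rw [CommGroup.card_monoidHom_of_hasEnoughRootsOfUnity E F, hcard]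
      norm_num)
  have fC : Fintype (E →* Fˣ) := Fintype.ofFinite _
  let σ : E →* Matrix ι ι F := ((Units.coeHom (Matrix ι ι F)).comp ρ).comp i
  have hσ : ∀ d : E, σ d = (ρ (i d) : Matrix ι ι F) := fun _ => rfl
  have hσinj : Function.Injective σ := fun a b hab => hi (hρ (Units.ext hab))
  have hY : ∀ d : E, ((ρ y0 : Matrix.GeneralLinearGroup ι F) : Matrix ι ι F) * σ d =
      σ (α d) * ((ρ y0 : Matrix.GeneralLinearGroup ι F) : Matrix ι ι F) := by
    intro d
    rw [hσ, hσ, hα, ← Units.val_mul, ← Units.val_mul, ← map_mul, ← map_mul]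
    congr 2
    group
  have hne := ep_ne_zero σ h2 hE hcard hσinj (ρ y0) α hY htr hαm
  have hΨv : ∀ ε, (((MonoidHom.toHomUnits (Phi σ h2 hE hcard)) ε : (Matrix ι ι F)ˣ) : Matrix ι ι F) =
      SS σ (fun lam => ((ε lam : ℤ) : F)) := fun ε => rfl
  refine ⟨(MonoidHom.toHomUnits (Phi σ h2 hE hcard)).range, (Set.finite_range _).to_subtype,
    card_range_Phi σ h2 hE hcard hne, ?_, ?_, ?_⟩
  · rintro _ ⟨ε, rfl⟩
    rw [← map_mul]
    have : ε * ε = 1 := by
      funext lam
      exact Int.units_mul_self _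
    rw [this, map_one]
  · rintro f hl hr hf _ ⟨ε, rfl⟩ u v
    rw [hΨv]
    exact form_of_SS h2 hE hcard σ f hl hr (fun d u v => hf _ u v) ε u v
  · rintro x0 hx0 _ ⟨ε, rfl⟩
    apply Units.ext
    rw [Units.val_mul, Units.val_mul, hΨv, SS, Finset.sum_mul, Finset.mul_sum]
    refine Finset.sum_congr rfl fun lam _ => ?_
    rw [smul_mul_assoc, mul_smul_comm]
    congr 1
    rw [ep, smul_mul_assoc, mul_smul_comm, Finset.sum_mul, Finset.mul_sum]
    congr 1
    refine Finset.sum_congr rfl fun d _ => ?_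
    rw [smul_mul_assoc, mul_smul_comm]
    congr 1
    rw [hσ, ← Units.val_mul, ← Units.val_mul, ← map_mul, ← map_mul, hx0]

/-- the same for a subgroup `D0` -/
theorem exists_T' {X : Type*} [Group X] [Finite X] {ι F : Type*} [Fintype ι] [DecidableEq ι] [Field F]
    (h2 : (2 : F) ≠ 0) (D0 : Subgroup X) (hD02 : ∀ d ∈ D0, d * d = 1) (hD0 : Nat.card D0 = 8)
    (ρ : X →* Matrix.GeneralLinearGroup ι F) (hρ : Function.Injective ρ) (y0 : X)
    (hy0D : ∀ d ∈ D0, y0 * d * y0⁻¹ ∈ D0)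
    (hy0tr : ∀ a ∈ D0, a ≠ 1 → ∀ b ∈ D0, b ≠ 1 → ∃ k : ℕ, y0 ^ k * a * (y0 ^ k)⁻¹ = b) {m : ℕ}
    (hy0m : ∀ d : X, y0 ^ 7 ^ m * d = d * y0 ^ 7 ^ m) :
    ∃ T : Subgroup (Matrix.GeneralLinearGroup ι F), Finite T ∧ 128 ≤ Nat.card T ∧ (∀ t ∈ T, t * t = 1) ∧
      (∀ f : (ι → F) → (ι → F) → F, (∀ u v w, f (u + v) w = f u w + f v w) → (∀ u v w, f u (v + w) = f u v + f u w) →
        (∀ (g : X) (u v : ι → F), f ((ρ g : Matrix ι ι F) *ᵥ u) ((ρ g : Matrix ι ι F) *ᵥ v) = f u v) →
        ∀ t ∈ T, ∀ u v : ι → F, f ((t : Matrix ι ι F) *ᵥ u) ((t : Matrix ι ι F) *ᵥ v) = f u v) ∧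
      ∀ x0 : X, (∀ d ∈ D0, d * x0 = x0 * d) → ∀ t ∈ T, t * ρ x0 = ρ x0 * t := by
  let iE : CommGroup D0 := { (inferInstance : Group D0) with
    mul_comm := fun a b => Subtype.ext (comm_of_exp hD02 a.2 b.2) }
  have hnorm : ∀ d : X, d ∈ D0 ↔ y0 * d * y0⁻¹ ∈ D0 := by
    have hle : D0.map (MulAut.conj y0).toMonoidHom ≤ D0 := by
      rintro _ ⟨d, hd, rfl⟩
      exact hy0D d hd
    have hcd : Nat.card (D0.map (MulAut.conj y0).toMonoidHom) = Nat.card D0 :=
      Subgroup.card_map_of_injective (MulAut.conj y0).injective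
    have heq : D0.map (MulAut.conj y0).toMonoidHom = D0 := Subgroup.eq_of_le_of_card_ge hle hcd.symm.le
    intro d
    refine ⟨hy0D d, fun h => ?_⟩
    rw [← heq] at h
    obtain ⟨d', hd', h'⟩ := h
    have h3 : y0 * d' * y0⁻¹ = y0 * d * y0⁻¹ := h'
    have h4 : d' = d := by
      have := congrArg (fun z => y0⁻¹ * z * y0) h3
      simpa [mul_assoc] using this
    rw [← h4]
    exact hd'
  let e : D0 ≃ D0 := ⟨fun d => ⟨y0 * d * y0⁻¹, hy0D d d.2⟩, fun d => ⟨y0⁻¹ * d * y0, by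
      rw [hnorm]
      have : y0 * (y0⁻¹ * (d : X) * y0) * y0⁻¹ = d := by group
      rw [this]
      exact d.2⟩, fun d => Subtype.ext (by
        change y0⁻¹ * (y0 * (d : X) * y0⁻¹) * y0 = d
        group), fun d => Subtype.ext (by
        change y0 * (y0⁻¹ * (d : X) * y0) * y0⁻¹ = d
        group)⟩
  let α : MulAut D0 := { e with map_mul' := fun a b => Subtype.ext (by
        change y0 * ((a : X) * b) * y0⁻¹ = (y0 * a * y0⁻¹) * (y0 * b * y0⁻¹)
        group) }
  have hα : ∀ d : D0, ((α d : D0) : X) = y0 * d * y0⁻¹ := fun _ => rfl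
  have hαk : ∀ (k : ℕ) (d : D0), (((α ^ k) d : D0) : X) = y0 ^ k * d * (y0 ^ k)⁻¹ := by
    intro k
    induction k with
    | zero => intro d; rw [pow_zero, pow_zero, inv_one, one_mul, mul_one]; rfl
    | succ k ih =>
      intro d
      rw [pow_succ', MulAut.mul_apply, hα, ih, pow_succ']
      group
  obtain ⟨T, h3, h4, h5, h6, h7⟩ := exists_T (X := X) (E := D0) h2 (fun e => Subtype.ext (hD02 _ e.2)) hD0 D0.subtype
    D0.subtype_injective ρ hρ y0 α (fun d => hα d) (fun a b ha hb => by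
      obtain ⟨k, hk⟩ := hy0tr a a.2 (fun h => ha (Subtype.ext h)) b b.2 (fun h => hb (Subtype.ext h))
      exact ⟨k, Subtype.ext (by rw [hαk]; exact hk)⟩) (m := m) (by
      apply MulEquiv.ext
      intro d
      apply Subtype.ext
      rw [hαk, hy0m, mul_inv_cancel_right]
      rfl)
  exact ⟨T, h3, h4, h5, h6, fun x0 hx0 => h7 x0 fun d => hx0 d d.2⟩

/-- **The sign group**: see the plan of S4546, CLASSICAL. -/
theorem noCfg_of_signs {X S : Type*} [Group X] [Finite X] [Group S] {ι F : Type*} [Fintype ι] [DecidableEq ι]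
    [Field F] (h2 : (2 : F) ≠ 0) (π : X →* S) (hπ : Function.Surjective π) (hcen : π.ker ≤ Subgroup.center X)
    (hcyc : IsCyclic π.ker) (ρ : X →* Matrix.GeneralLinearGroup ι F) (hρ : Function.Injective ρ)
    (hT : ∀ T : Subgroup (Matrix.GeneralLinearGroup ι F), Finite T → 128 ≤ Nat.card T → (∀ t ∈ T, t * t = 1) →
      (∀ f : (ι → F) → (ι → F) → F, (∀ u v w, f (u + v) w = f u w + f v w) → (∀ u v w, f u (v + w) = f u v + f u w) →
        (∀ (g : X) (u v : ι → F), f ((ρ g : Matrix ι ι F) *ᵥ u) ((ρ g : Matrix ι ι F) *ᵥ v) = f u v) →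
        ∀ t ∈ T, ∀ u v : ι → F, f ((t : Matrix ι ι F) *ᵥ u) ((t : Matrix ι ι F) *ᵥ v) = f u v) →
      32 ≤ Nat.card ↥(T ⊓ ρ.range)) : NoCfg S := by
  intro D x hc
  obtain ⟨y, hy⟩ := hc.seven
  obtain ⟨D0, y0, x0, hD0, hD02, hD0π, hD0inj, hx0, hx0c, hy0D, hy0tr, m, hy0m⟩ :=
    exists_lift hπ hcen hcyc hc.e8.card hc.e8.inv hy hc.odd hc.comm
  obtain ⟨T, hTfin, hTc, hT2, hTf, hTx⟩ := exists_T' h2 D0 hD02 hD0 ρ hρ y0 hy0D hy0tr hy0m
  have key := hT T hTfin hTc hT2 hTf
  -- the preimage in `X`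
  let T' : Subgroup X := T.comap ρ
  have hT' : Nat.card T' = Nat.card ↥(T ⊓ ρ.range) := by
    refine Nat.card_congr (Equiv.ofBijective (fun t : T' => (⟨ρ t, t.2, ⟨t, rfl⟩⟩ : ↥(T ⊓ ρ.range))) ⟨?_, ?_⟩)
    · intro a b hab
      exact Subtype.ext (hρ (congrArg Subtype.val hab))
    · rintro ⟨_, ht, ⟨g, rfl⟩⟩
      exact ⟨⟨g, ht⟩, rfl⟩
  have hT'2 : ∀ t ∈ T', t * t = 1 := fun t ht => hρ (by rw [map_mul, map_one]; exact hT2 _ ht)
  have hT'x : ∀ t ∈ T', t * x0 = x0 * t := by
    intro t ht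
    apply hρ
    rw [map_mul, map_mul]
    exact hTx x0 hx0c _ ht
  -- the image in `S`
  let Q : Subgroup S := T'.map π
  have hQ2 : ∀ q ∈ Q, q * q = 1 := by
    rintro _ ⟨t, ht, rfl⟩
    rw [← map_mul, hT'2 t ht, map_one]
  have hQp : IsPGroup 2 Q := fun q => ⟨1, Subtype.ext (by
    rw [pow_one, sq]
    exact hQ2 _ q.2)⟩
  have hQx : ∀ q ∈ Q, q * x = x * q := by
    rintro _ ⟨t, ht, rfl⟩
    rw [← hx0, ← map_mul, ← map_mul, hT'x t ht]
  obtain ⟨c, -, hcQ⟩ := hc.syl Q hQp hQx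
  have hDfin : Finite D := Nat.finite_of_card_ne_zero (by rw [hc.e8.card]; norm_num)
  have hQ8 : Nat.card Q ≤ 8 := by
    rw [← hc.e8.card]
    apply Nat.card_le_card_of_injective (fun q : Q => (⟨c * q * c⁻¹, hcQ q q.2⟩ : D))
    intro a b hab
    have h3 : c * (a : S) * c⁻¹ = c * (b : S) * c⁻¹ := congrArg Subtype.val hab
    exact Subtype.ext (by simpa using h3)
  let π' : T' →* S := π.comp T'.subtype
  have hker : Nat.card π'.ker ≤ 2 := by
    by_contra hcon
    push Not at hcon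
    have _ : Fintype π'.ker := Fintype.ofFinite _
    rw [Nat.card_eq_fintype_card, Fintype.two_lt_card_iff] at hcon
    obtain ⟨a, b, c, hab, hac, hbc⟩ := hcon
    -- two of the three are nontrivial
    have hmem : ∀ z : π'.ker, (z.1 : X) ∈ π.ker := fun z => z.2
    have hz2 : ∀ z : π'.ker, (z.1 : X) * (z.1 : X) = 1 := fun z => hT'2 _ z.1.2
    have huniq : ∀ z w : π'.ker, z ≠ 1 → w ≠ 1 → z = w := fun z w hz hw =>
      Subtype.ext (Subtype.ext (eq_of_inv hcyc (hmem z) (hmem w) (hz2 z) (hz2 w)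
        (fun h => hz (Subtype.ext (Subtype.ext h))) fun h => hw (Subtype.ext (Subtype.ext h))))
    by_cases h1 : a = 1
    · exact hbc (huniq b c (fun h => hab (h1.trans h.symm)) (fun h => hac (h1.trans h.symm)))
    · by_cases h3 : b = 1
      · exact hac (huniq a c h1 (fun h => hbc (h3.trans h.symm)))
      · exact hab (huniq a b h1 h3)
  have h5 := Subgroup.card_mul_index π'.ker
  have hrange : π'.range = Q := by
    ext q
    constructor
    · rintro ⟨t, rfl⟩
      exact ⟨t, t.2, rfl⟩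
    · rintro ⟨t, ht, rfl⟩
      exact ⟨⟨t, ht⟩, rfl⟩
  rw [Subgroup.index_ker, hrange] at h5
  have h6 : Nat.card π'.ker * Nat.card Q ≤ 2 * 8 := Nat.mul_le_mul hker hQ8
  omega

end Cfsg.Agent.H544.KKL
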