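import Mathlib
import Cfsg.Agent.H613.KKL.Defs

/-!
# S4546, CLASSICAL 0, part 1: lifting `D ≅ 2³` and the elements `x`, `y` to a central extension with cyclic kernel
-/

set_option autoImplicit false
set_option linter.unusedSectionVars false

namespace Cfsg.Agent.H544.KKL
open Cfsg Cfsg.Agent.H613.KKL

section General
variable {X : Type*} [Group X]

/-- a finite cyclic group has at most one involution -/
theorem eq_of_inv [Finite X] {Z : Subgroup X} (hc : IsCyclic Z) {u v : X} (hu : u ∈ Z) (hv : v ∈ Z) (hu2 : u * u = 1)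
    (hv2 : v * v = 1) (hu1 : u ≠ 1) (hv1 : v ≠ 1) : u = v := by
  classical
  by_contra huv
  have _ : Fintype Z := Fintype.ofFinite Z
  have h := IsCyclic.card_pow_eq_one_le (α := Z) (n := 2) (by norm_num)
  have h2 : ({1, ⟨u, hu⟩, ⟨v, hv⟩} : Finset Z) ⊆ Finset.univ.filter fun a : Z => a ^ 2 = 1 := by
    intro a ha
    rw [Finset.mem_insert, Finset.mem_insert, Finset.mem_singleton] at ha
    rw [Finset.mem_filter]
    refine ⟨Finset.mem_univ _, ?_⟩
    rcases ha with rfl | rfl | rfl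
    · exact one_pow 2
    · exact Subtype.ext (by rw [sq]; exact hu2)
    · exact Subtype.ext (by rw [sq]; exact hv2)
  have h3 := Finset.card_le_card h2
  have h4 : ({1, ⟨u, hu⟩, ⟨v, hv⟩} : Finset Z).card = 3 := by
    rw [Finset.card_insert_of_notMem, Finset.card_insert_of_notMem, Finset.card_singleton]
    · rw [Finset.mem_singleton]
      intro h
      exact huv (congrArg Subtype.val h)
    · rw [Finset.mem_insert, Finset.mem_singleton]
      rintro (h | h)
      · exact hu1 (congrArg Subtype.val h).symm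
      · exact hv1 (congrArg Subtype.val h).symm
  omega

/-- the squares have index at most two in a cyclic group -/
theorem sq_of_cyclic {Z : Subgroup X} (hc : IsCyclic Z) {u v : X} (hu : u ∈ Z) (hv : v ∈ Z) :
    (∃ w ∈ Z, w * w = u) ∨ (∃ w ∈ Z, w * w = v) ∨ ∃ w ∈ Z, w * w = u * v := by
  obtain ⟨c, hc⟩ := hc.exists_generator
  obtain ⟨i, hi⟩ := Subgroup.mem_zpowers_iff.1 (hc ⟨u, hu⟩)
  obtain ⟨j, hj⟩ := Subgroup.mem_zpowers_iff.1 (hc ⟨v, hv⟩)
  have hi' : (c : X) ^ i = u := by have := congrArg Subtype.val hi; simpa using this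
  have hj' : (c : X) ^ j = v := by have := congrArg Subtype.val hj; simpa using this
  rcases Int.even_or_odd i with ⟨a, ha⟩ | ⟨a, ha⟩
  · left
    refine ⟨(c : X) ^ a, zpow_mem c.2 a, ?_⟩
    rw [← zpow_add, ← ha, hi']
  rcases Int.even_or_odd j with ⟨b, hb⟩ | ⟨b, hb⟩
  · right; left
    refine ⟨(c : X) ^ b, zpow_mem c.2 b, ?_⟩
    rw [← zpow_add, ← hb, hj']
  right; right
  refine ⟨(c : X) ^ (a + b + 1), zpow_mem c.2 _, ?_⟩
  rw [← zpow_add, ← hi', ← hj', ← zpow_add]
  congr 1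
  omega

theorem exists_notMem_finset {D : Subgroup X} (hD : Nat.card D = 8) (s : Finset X) (hs : s.card < 8) :
    ∃ d ∈ D, d ∉ s := by
  by_contra hcon
  push Not at hcon
  have h1 : Nat.card D = Set.ncard (D : Set X) := rfl
  have h2 : Set.ncard (D : Set X) ≤ Set.ncard (s : Set X) :=
    Set.ncard_le_ncard (fun x hx => hcon x hx) s.finite_toSet
  rw [Set.ncard_coe_finset] at h2
  omega

theorem eq_of_card_gt {D H : Subgroup X} (hD : Nat.card D = 8) (hH : H ≤ D) (s : Finset X) (hs : 4 < s.card)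
    (hsH : ∀ x ∈ s, x ∈ H) : H = D := by
  have _ : Finite D := Nat.finite_of_card_ne_zero (by omega)
  have _ : Finite H := Finite.of_injective _ (Subgroup.inclusion_injective hH)
  have h1 : s.card ≤ Nat.card H := by
    have h1 : Nat.card H = Set.ncard (H : Set X) := rfl
    rw [h1, ← Set.ncard_coe_finset]
    exact Set.ncard_le_ncard (fun x hx => hsH x hx) (Set.toFinite _)
  have h2 := Subgroup.card_dvd_of_le hH
  rw [hD] at h2
  have h3 : Nat.card H = 8 := by
    have h5 : Nat.card H ≤ 8 := Nat.le_of_dvd (by norm_num) h2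
    interval_cases Nat.card H <;> omega
  exact Subgroup.eq_of_le_of_card_ge hH (by rw [hD, h3])

theorem comm_of_exp {D : Subgroup X} (hD2 : ∀ d ∈ D, d * d = 1) {a b : X} (ha : a ∈ D) (hb : b ∈ D) :
    a * b = b * a := by
  have h1 := hD2 _ (mul_mem ha hb)
  have h2 := hD2 _ ha
  have h3 := hD2 _ hb
  have e1 : a⁻¹ = a := inv_eq_of_mul_eq_one_right h2
  have e2 : b⁻¹ = b := inv_eq_of_mul_eq_one_right h3
  calc a * b = (a * b)⁻¹ := (inv_eq_of_mul_eq_one_right h1).symm
    _ = b⁻¹ * a⁻¹ := mul_inv_rev _ _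
    _ = b * a := by rw [e1, e2]

end General

section Lift
variable {X S : Type*} [Group X] [Group S] {π : X →* S}

/-- the product of the conjugates of `g` under `1, y, …, y^(k-1)` -/
def Nm (y : X) : ℕ → X → X
  | 0, _ => 1
  | k + 1, g => Nm y k g * (y ^ k * g * (y ^ k)⁻¹)

theorem Nm_conj (y : X) (k : ℕ) (g : X) : Nm y k (y * g * y⁻¹) = y * Nm y k g * y⁻¹ := by
  induction k with
  | zero => simp [Nm]
  | succ k ih =>
    rw [Nm, Nm, ih]
    have : y ^ k * (y * g * y⁻¹) * (y ^ k)⁻¹ = y * (y ^ k * g * (y ^ k)⁻¹) * y⁻¹ := by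
      have h1 : y ^ k * y = y * y ^ k := (pow_succ y k).symm.trans (pow_succ' y k)
      calc y ^ k * (y * g * y⁻¹) * (y ^ k)⁻¹ = (y ^ k * y) * g * (y ^ k * y)⁻¹ := by group
        _ = (y * y ^ k) * g * (y * y ^ k)⁻¹ := by rw [h1]
        _ = _ := by group
    rw [this]
    group

theorem Nm_shift (y : X) (k : ℕ) (g : X) : Nm y (k + 1) g = g * (y * Nm y k g * y⁻¹) := by
  induction k with
  | zero => simp [Nm]
  | succ k ih =>
    have h1 : y ^ (k + 1) * g * (y ^ (k + 1))⁻¹ = y * (y ^ k * g * (y ^ k)⁻¹) * y⁻¹ := by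
      rw [pow_succ']
      group
    calc Nm y (k + 1 + 1) g = Nm y (k + 1) g * (y ^ (k + 1) * g * (y ^ (k + 1))⁻¹) := rfl
      _ = g * (y * Nm y k g * y⁻¹) * (y * (y ^ k * g * (y ^ k)⁻¹) * y⁻¹) := by rw [ih, h1]
      _ = g * (y * (Nm y k g * (y ^ k * g * (y ^ k)⁻¹)) * y⁻¹) := by group
      _ = g * (y * Nm y (k + 1) g * y⁻¹) := rfl

theorem Nm_central {y z : X} (hz : ∀ w, z * w = w * z) (k : ℕ) : Nm y k z = z ^ k := by
  induction k with
  | zero => simp [Nm]
  | succ k ih =>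
    rw [Nm, ih, pow_succ]
    congr 1
    rw [← hz (y ^ k), mul_inv_cancel_right]

theorem Nm_one (y : X) (k : ℕ) : Nm y k 1 = 1 := by
  rw [Nm_central (fun w => by rw [one_mul, mul_one]), one_pow]

theorem Nm_mem {y : X} {H : Subgroup X} (hy : ∀ h ∈ H, y * h * y⁻¹ ∈ H) {g : X} (hg : g ∈ H) (k : ℕ) :
    Nm y k g ∈ H ∧ y ^ k * g * (y ^ k)⁻¹ ∈ H := by
  induction k with
  | zero => exact ⟨H.one_mem, by simpa using hg⟩
  | succ k ih =>
    refine ⟨mul_mem ih.1 ih.2, ?_⟩
    have : y ^ (k + 1) * g * (y ^ (k + 1))⁻¹ = y * (y ^ k * g * (y ^ k)⁻¹) * y⁻¹ := by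
      rw [pow_succ']
      group
    rw [this]
    exact hy _ ih.2

theorem Nm_mul {y : X} {H : Subgroup X} (hy : ∀ h ∈ H, y * h * y⁻¹ ∈ H) (hc : ∀ a ∈ H, ∀ b ∈ H, a * b = b * a)
    {g h : X} (hg : g ∈ H) (hh : h ∈ H) (k : ℕ) : Nm y k (g * h) = Nm y k g * Nm y k h := by
  induction k with
  | zero => simp [Nm]
  | succ k ih =>
    rw [Nm, Nm, Nm, ih]
    have e1 : y ^ k * (g * h) * (y ^ k)⁻¹ = (y ^ k * g * (y ^ k)⁻¹) * (y ^ k * h * (y ^ k)⁻¹) := by group
    rw [e1]
    have h1 := hc _ (Nm_mem hy hh k).1 _ (Nm_mem hy hg k).2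
    calc Nm y k g * Nm y k h * (y ^ k * g * (y ^ k)⁻¹ * (y ^ k * h * (y ^ k)⁻¹))
        = Nm y k g * (Nm y k h * (y ^ k * g * (y ^ k)⁻¹)) * (y ^ k * h * (y ^ k)⁻¹) := by group
      _ = Nm y k g * ((y ^ k * g * (y ^ k)⁻¹) * Nm y k h) * (y ^ k * h * (y ^ k)⁻¹) := by rw [h1]
      _ = _ := by group

theorem map_Nm (y : X) (k : ℕ) (g : X) : π (Nm y k g) = Nm (π y) k (π g) := by
  induction k with
  | zero => simp [Nm]
  | succ k ih => rw [Nm, Nm, map_mul, ih, map_mul, map_mul, map_inv, map_pow]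

variable [Finite X]

theorem exists_lift (hπ : Function.Surjective π) (hcen : π.ker ≤ Subgroup.center X) (hcyc : IsCyclic π.ker)
    {D : Subgroup S} (hD : Nat.card D = 8) (hD2 : ∀ d ∈ D, d * d = 1) {y : S} (hy : Seven D y) {x : S}
    (hx : Odd (orderOf x)) (hxc : ∀ d ∈ D, d * x = x * d) :
    ∃ (D0 : Subgroup X) (y0 x0 : X), Nat.card D0 = 8 ∧ (∀ d ∈ D0, d * d = 1) ∧ (∀ d ∈ D0, π d ∈ D) ∧
      (∀ d ∈ D0, π d = 1 → d = 1) ∧ π x0 = x ∧ (∀ d ∈ D0, d * x0 = x0 * d) ∧ (∀ d ∈ D0, y0 * d * y0⁻¹ ∈ D0) ∧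
      (∀ a ∈ D0, a ≠ 1 → ∀ b ∈ D0, b ≠ 1 → ∃ k : ℕ, y0 ^ k * a * (y0 ^ k)⁻¹ = b) ∧
      ∃ m : ℕ, ∀ d : X, y0 ^ 7 ^ m * d = d * y0 ^ 7 ^ m := by
  classical
  obtain ⟨y0, hy0⟩ := hπ y
  obtain ⟨x0, hx0⟩ := hπ x
  have hce : ∀ z : X, π z = 1 → ∀ w : X, z * w = w * z := fun z hz w =>
    (Subgroup.mem_center_iff.1 (hcen (MonoidHom.mem_ker.2 hz)) w).symm
  have hsq : ∀ a : X, π a ∈ D → π (a * a) = 1 := fun a ha => by rw [map_mul]; exact hD2 _ ha
  -- commutators
  have hcm : ∀ a b : X, π a ∈ D → (π a * π b = π b * π a) →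
      π (a * b * a⁻¹ * b⁻¹) = 1 ∧ (a * b * a⁻¹ * b⁻¹) * (a * b * a⁻¹ * b⁻¹) = 1 ∧
        a * b = (a * b * a⁻¹ * b⁻¹) * (b * a) := by
    intro a b ha hab
    have h1 : π (a * b * a⁻¹ * b⁻¹) = 1 := by
      rw [map_mul, map_mul, map_mul, map_inv, map_inv, hab]
      group
    have h3 : a * b = (a * b * a⁻¹ * b⁻¹) * (b * a) := by group
    refine ⟨h1, ?_, h3⟩
    set c := a * b * a⁻¹ * b⁻¹ with hc
    have hcc := hce c h1
    have h4 : a * a * b = b * (a * a) := hce _ (hsq a ha) b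
    have h5 : a * a * b = c * c * (b * (a * a)) := by
      calc a * a * b = a * (a * b) := mul_assoc _ _ _
        _ = a * (c * (b * a)) := by rw [← h3]
        _ = (a * c) * (b * a) := by group
        _ = (c * a) * (b * a) := by rw [hcc a]
        _ = c * (a * b) * a := by group
        _ = c * (c * (b * a)) * a := by rw [← h3]
        _ = _ := by group
    rw [h4] at h5
    exact (right_eq_mul.1 h5)
  have hcen2 : ∀ u v : X, π u = 1 → π v = 1 → u * u = 1 → v * v = 1 → u ≠ 1 → v ≠ 1 → u = v :=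
    fun u v hu hv => eq_of_inv hcyc (MonoidHom.mem_ker.2 hu) (MonoidHom.mem_ker.2 hv)
  have hDc : ∀ a ∈ D, ∀ b ∈ D, a * b = b * a := fun a ha b hb => comm_of_exp hD2 ha hb
  -- the conjugation by `y0`
  have hyD : ∀ a : X, π a ∈ D → π (y0 * a * y0⁻¹) ∈ D := fun a ha => by
    rw [map_mul, map_mul, map_inv, hy0]
    exact (hy.norm _).2 ha
  let Dh : Subgroup X := D.comap π
  have hyDh : ∀ h ∈ Dh, y0 * h * y0⁻¹ ∈ Dh := fun h hh => hyD h hh
  -- an element of `Dh`, not in the kernel, commuting with `Dh`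
  have hR : ∃ g : X, π g ∈ D ∧ π g ≠ 1 ∧ ∀ b : X, π b ∈ D → g * b = b * g := by
    obtain ⟨d1, hd1, hd1'⟩ := exists_notMem_finset hD {1} (by simp)
    obtain ⟨a, ha⟩ := hπ d1
    rw [Finset.mem_singleton] at hd1'
    have haD : π a ∈ D := by rw [ha]; exact hd1
    by_cases hall : ∀ b : X, π b ∈ D → a * b = b * a
    · exact ⟨a, haD, by rw [ha]; exact hd1', hall⟩
    push Not at hall
    obtain ⟨b, hbD, hab⟩ := hall
    have hab' := hcm a b haD (hDc _ haD _ hbD)
    set z := a * b * a⁻¹ * b⁻¹ with hz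
    have hz1 : z ≠ 1 := fun h => hab (by have h1 := hab'.2.2; rwa [h, one_mul] at h1)
    have hπb : π b ≠ 1 := fun h => hab (hce b h a).symm
    have hπab : π a ≠ π b := fun h => hab (by
      have h1 : π (a⁻¹ * b) = 1 := by rw [map_mul, map_inv, h]; group
      have h2 := hce _ h1 a
      have h3 : b = a * (a⁻¹ * b) := by group
      calc a * b = a * (a * (a⁻¹ * b)) := by rw [← h3]
        _ = a * ((a⁻¹ * b) * a) := by rw [h2]
        _ = b * a := by group)
    obtain ⟨d, hd, hd'⟩ := exists_notMem_finset hD {1, π a, π b, π a * π b} (by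
      have := Finset.card_le_four (a := (1 : S)) (b := π a) (c := π b) (d := π a * π b)
      omega)
    simp only [Finset.mem_insert, Finset.mem_singleton, not_or] at hd'
    obtain ⟨g, hg⟩ := hπ d
    -- change `g` to commute with `a`
    have hstep1 : ∃ g1 : X, π g1 ∈ D ∧ a * g1 = g1 * a ∧ π g1 ≠ 1 ∧ π g1 ≠ π a ∧ π g1 ≠ π b ∧ π g1 ≠ π a * π b := by
      by_cases h : a * g = g * a
      · exact ⟨g, by rw [hg]; exact hd, h, by rw [hg]; exact hd'.1, by rw [hg]; exact hd'.2.1,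
          by rw [hg]; exact hd'.2.2.1, by rw [hg]; exact hd'.2.2.2⟩
      · have hgD : π g ∈ D := by rw [hg]; exact hd
        have hag := hcm a g haD (hDc _ haD _ hgD)
        have hne : a * g * a⁻¹ * g⁻¹ ≠ 1 := fun h1 => h (by have h2 := hag.2.2; rwa [h1, one_mul] at h2)
        have heq := hcen2 _ _ hag.1 hab'.1 hag.2.1 hab'.2.1 hne hz1
        rw [heq] at hag
        have hzc := hce z hab'.1
        refine ⟨g * b, by rw [map_mul]; exact mul_mem hgD hbD, ?_, ?_, ?_, ?_, ?_⟩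
        · calc a * (g * b) = (a * g) * b := by group
            _ = (z * (g * a)) * b := by rw [hag.2.2]
            _ = z * g * (a * b) := by group
            _ = z * g * (z * (b * a)) := by rw [← hab'.2.2]
            _ = z * (g * z) * (b * a) := by group
            _ = z * (z * g) * (b * a) := by rw [hzc g]
            _ = (z * z) * (g * b * a) := by group
            _ = g * b * a := by rw [hab'.2.1, one_mul]
        · intro h1
          rw [map_mul, hg] at h1
          have h2 := hD2 _ hbD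
          exact hd'.2.2.1 (by rw [eq_comm, ← mul_left_inj (π b), h2, h1])
        · intro h1
          rw [map_mul, hg] at h1
          have h2 := hD2 _ hbD
          exact hd'.2.2.2 (by rw [← h1, mul_assoc, h2, mul_one])
        · intro h1
          rw [map_mul, hg] at h1
          exact hd'.1 (by rwa [mul_eq_right] at h1)
        · intro h1
          rw [map_mul, hg, mul_left_inj] at h1
          exact hd'.2.1 h1
    obtain ⟨g1, hg1D, hg1a, hg11, hg12, hg13, hg14⟩ := hstep1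
    have hstep2 : ∃ g2 : X, π g2 ∈ D ∧ a * g2 = g2 * a ∧ b * g2 = g2 * b ∧ π g2 ≠ 1 ∧ π g2 ≠ π a ∧ π g2 ≠ π b ∧
        π g2 ≠ π a * π b := by
      by_cases h : b * g1 = g1 * b
      · exact ⟨g1, hg1D, hg1a, h, hg11, hg12, hg13, hg14⟩
      · have hbg := hcm b g1 hbD (hDc _ hbD _ hg1D)
        have hne : b * g1 * b⁻¹ * g1⁻¹ ≠ 1 := fun h1 => h (by have h2 := hbg.2.2; rwa [h1, one_mul] at h2)
        have heq := hcen2 _ _ hbg.1 hab'.1 hbg.2.1 hab'.2.1 hne hz1
        rw [heq] at hbg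
        have hzc := hce z hab'.1
        have hba : b * a = z * (a * b) := by
          rw [hab'.2.2, ← mul_assoc, hab'.2.1, one_mul]
        refine ⟨g1 * a, by rw [map_mul]; exact mul_mem hg1D haD, ?_, ?_, ?_, ?_, ?_, ?_⟩
        · rw [← mul_assoc, hg1a]
        · calc b * (g1 * a) = (b * g1) * a := by group
            _ = (z * (g1 * b)) * a := by rw [hbg.2.2]
            _ = z * g1 * (b * a) := by group
            _ = z * g1 * (z * (a * b)) := by rw [hba]
            _ = z * (g1 * z) * (a * b) := by group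
            _ = z * (z * g1) * (a * b) := by rw [hzc g1]
            _ = (z * z) * (g1 * a * b) := by group
            _ = g1 * a * b := by rw [hab'.2.1, one_mul]
        · intro h1
          rw [map_mul] at h1
          have h2 := hD2 _ haD
          exact hg12 (by rw [eq_comm, ← mul_left_inj (π a), h2, h1])
        · intro h1
          rw [map_mul] at h1
          exact hg11 (by rwa [mul_eq_right] at h1)
        · intro h1
          rw [map_mul] at h1
          have h2 := hD2 _ haD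
          exact hg14 (by rw [hDc _ haD _ hbD, ← h1, mul_assoc, h2, mul_one])
        · intro h1
          rw [map_mul, hDc _ haD _ hbD, mul_left_inj] at h1
          exact hg13 h1
    obtain ⟨g2, hg2D, hg2a, hg2b, hg21, hg22, hg23, hg24⟩ := hstep2
    refine ⟨g2, hg2D, hg21, ?_⟩
    -- the image of the centralizer of `g2` in `Dh` is `D`
    let C : Subgroup X := Dh ⊓ Subgroup.centralizer {g2}
    have hC : C.map π = D := by
      apply eq_of_card_gt hD (s := {1, π a, π b, π a * π b, π g2})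
      · rintro _ ⟨c, hc, rfl⟩
        exact hc.1
      · rw [Finset.card_insert_of_notMem, Finset.card_insert_of_notMem, Finset.card_insert_of_notMem,
          Finset.card_insert_of_notMem, Finset.card_singleton]
        · norm_num
        · rw [Finset.mem_singleton]
          exact Ne.symm hg24
        · simp only [Finset.mem_insert, Finset.mem_singleton, not_or]
          refine ⟨fun h => ?_, Ne.symm hg23⟩
          rw [right_eq_mul] at h
          rw [ha] at h
          exact hd1' h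
        · simp only [Finset.mem_insert, Finset.mem_singleton, not_or]
          refine ⟨hπab, fun h => ?_, Ne.symm hg22⟩
          rw [left_eq_mul] at h
          exact hπb h
        · simp only [Finset.mem_insert, Finset.mem_singleton, not_or]
          refine ⟨fun h => hd1' (by rw [← ha, h]), Ne.symm hπb, fun h => hπab ?_, Ne.symm hg21⟩
          have h2 := hD2 _ hbD
          rw [← mul_left_inj (π b), h2, h]
      · have hm : ∀ c : X, π c ∈ D → c * g2 = g2 * c → π c ∈ C.map π := fun c hc hcg =>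
          ⟨c, ⟨hc, Subgroup.mem_centralizer_singleton_iff.2 hcg⟩, rfl⟩
        intro s hs
        simp only [Finset.mem_insert, Finset.mem_singleton] at hs
        rcases hs with rfl | rfl | rfl | rfl | rfl
        · exact one_mem _
        · exact hm a haD hg2a
        · exact hm b hbD hg2b
        · exact mul_mem (hm a haD hg2a) (hm b hbD hg2b)
        · exact hm g2 hg2D rfl
    intro c hc
    have h1 : π c ∈ C.map π := by rw [hC]; exact hc
    obtain ⟨c', hc', hcc⟩ := h1
    have h2 : π (c'⁻¹ * c) = 1 := by rw [map_mul, map_inv, hcc]; group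
    have h3 := hce _ h2 g2
    have h4 : c' * g2 = g2 * c' := Subgroup.mem_centralizer_singleton_iff.1 hc'.2
    calc g2 * c = (g2 * c') * (c'⁻¹ * c) := by group
      _ = (c' * g2) * (c'⁻¹ * c) := by rw [h4]
      _ = c' * (g2 * (c'⁻¹ * c)) := by group
      _ = c' * ((c'⁻¹ * c) * g2) := by rw [h3]
      _ = c * g2 := by group
  obtain ⟨g0, hg0D, hg01, hg0c⟩ := hR
  -- conjugates of a lift
  have hconj : ∀ a : X, π a ∈ D → ∀ k : ℕ, π (y0 ^ k * a * (y0 ^ k)⁻¹) ∈ D ∧ π (y0 ^ k * a * (y0 ^ k)⁻¹) =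
      y ^ k * π a * (y ^ k)⁻¹ := fun a ha k => by
    refine ⟨(Nm_mem hyDh (g := a) ha k).2, ?_⟩
    rw [map_mul, map_mul, map_inv, map_pow, hy0]
  have hconj' : ∀ b : X, π b ∈ D → ∀ k : ℕ, π ((y0 ^ k)⁻¹ * b * y0 ^ k) ∈ D := by
    intro b hb k
    have h1 : ∀ k : ℕ, ∀ d : S, (y ^ k * d * (y ^ k)⁻¹ ∈ D → d ∈ D) := by
      intro k
      induction k with
      | zero => intro d hd; simpa using hd
      | succ k ih =>
        intro d hd
        apply ih
        rw [← hy.norm]
        have : y * (y ^ k * d * (y ^ k)⁻¹) * y⁻¹ = y ^ (k + 1) * d * (y ^ (k + 1))⁻¹ := by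
          rw [pow_succ']
          group
        rw [this]
        exact hd
    apply h1 k
    rw [map_mul, map_mul, map_inv, map_pow, hy0]
    have : y ^ k * ((y ^ k)⁻¹ * π b * y ^ k) * (y ^ k)⁻¹ = π b := by group
    rw [this]
    exact hb
  -- `Dh` is commutative
  have hDh : ∀ a : X, π a ∈ D → ∀ b : X, π b ∈ D → a * b = b * a := by
    intro a ha b hb
    by_cases ha1 : π a = 1
    · exact hce a ha1 b
    obtain ⟨k, hk⟩ := hy.trans _ hg0D hg01 _ ha ha1
    let g' := y0 ^ k * g0 * (y0 ^ k)⁻¹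
    have h1 : π g' = π a := (hconj g0 hg0D k).2.trans hk
    have h2 : g' * b = b * g' := by
      have h3 := hg0c _ (hconj' b hb k)
      calc g' * b = y0 ^ k * (g0 * ((y0 ^ k)⁻¹ * b * y0 ^ k)) * (y0 ^ k)⁻¹ := by simp only [g']; group
        _ = y0 ^ k * (((y0 ^ k)⁻¹ * b * y0 ^ k) * g0) * (y0 ^ k)⁻¹ := by rw [h3]
        _ = _ := by simp only [g']; group
    have h4 : π (g'⁻¹ * a) = 1 := by rw [map_mul, map_inv, h1]; group
    have h5 := hce _ h4 b
    calc a * b = g' * ((g'⁻¹ * a) * b) := by group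
      _ = g' * (b * (g'⁻¹ * a)) := by rw [h5]
      _ = (g' * b) * (g'⁻¹ * a) := by group
      _ = (b * g') * (g'⁻¹ * a) := by rw [h2]
      _ = b * a := by group
  -- every element of `D` lifts to an element of exponent two
  have hinv : ∀ d ∈ D, ∃ g : X, π g = d ∧ g * g = 1 := by
    have h0 : ∃ g : X, π g ∈ D ∧ π g ≠ 1 ∧ g * g = 1 := by
      obtain ⟨d1, hd1, hd1'⟩ := exists_notMem_finset hD {1} (by simp)
      obtain ⟨d2, hd2, hd2'⟩ := exists_notMem_finset hD {1, d1} (by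
        have := Finset.card_le_two (a := (1 : S)) (b := d1)
        omega)
      simp only [Finset.mem_insert, Finset.mem_singleton, not_or] at hd1' hd2'
      obtain ⟨a, ha⟩ := hπ d1
      obtain ⟨b, hb⟩ := hπ d2
      have haD : π a ∈ D := by rw [ha]; exact hd1
      have hbD : π b ∈ D := by rw [hb]; exact hd2
      have hab := hDh a haD b hbD
      have key : ∀ c : X, π c ∈ D → π c ≠ 1 → (∃ w ∈ π.ker, w * w = c * c) → ∃ g : X, π g ∈ D ∧ π g ≠ 1 ∧ g * g = 1 := by
        rintro c hc hc1 ⟨w, hw, hwc⟩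
        have hwk : π w = 1 := hw
        have h1 : π (c * w⁻¹) = π c := by rw [map_mul, map_inv, hwk, inv_one, mul_one]
        refine ⟨c * w⁻¹, by rw [h1]; exact hc, by rw [h1]; exact hc1, ?_⟩
        have h2 := hce w hwk c
        calc c * w⁻¹ * (c * w⁻¹) = c * w⁻¹ * c * w⁻¹ := by group
          _ = c * w⁻¹ * (c * w) * w⁻¹ * w⁻¹ := by group
          _ = c * w⁻¹ * (w * c) * w⁻¹ * w⁻¹ := by rw [h2]
          _ = (c * c) * (w * w)⁻¹ := by group
          _ = 1 := by rw [hwc]; group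
      rcases sq_of_cyclic hcyc (MonoidHom.mem_ker.2 (hsq a haD)) (MonoidHom.mem_ker.2 (hsq b hbD)) with h | h | h
      · exact key a haD (by rw [ha]; exact hd1') h
      · exact key b hbD (by rw [hb]; exact hd2'.1) h
      · refine key (a * b) (by rw [map_mul]; exact mul_mem haD hbD) ?_ ?_
        · rw [map_mul, ha, hb]
          intro h1
          apply hd2'.2
          have h2 := hD2 _ hd1
          rw [← mul_right_inj d1, h1, h2]
        · obtain ⟨w, hw, hwc⟩ := h
          refine ⟨w, hw, ?_⟩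
          rw [hwc]
          calc a * a * (b * b) = a * (a * b) * b := by group
            _ = a * (b * a) * b := by rw [hab]
            _ = _ := by group
    obtain ⟨g, hgD, hg1, hgg⟩ := h0
    intro d hd
    by_cases hd1 : d = 1
    · exact ⟨1, by rw [map_one, hd1], one_mul 1⟩
    obtain ⟨k, hk⟩ := hy.trans _ hgD hg1 _ hd hd1
    refine ⟨y0 ^ k * g * (y0 ^ k)⁻¹, (hconj g hgD k).2.trans hk, ?_⟩
    calc y0 ^ k * g * (y0 ^ k)⁻¹ * (y0 ^ k * g * (y0 ^ k)⁻¹) = y0 ^ k * (g * g) * (y0 ^ k)⁻¹ := by group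
      _ = 1 := by rw [hgg]; group
  obtain ⟨m, hm⟩ := hy.seven
  have hn7 : y ^ 7 ^ m = 1 := by rw [← hm]; exact pow_orderOf_eq_one y
  -- the norm of an element of `Dh` is in the kernel
  have hN : ∀ g : X, π g ∈ D → π (Nm y0 (7 ^ m) g) = 1 := by
    intro g hg
    by_contra hne
    have h1 : π (Nm y0 (7 ^ m) g) ∈ D := (Nm_mem hyDh (g := g) hg _).1
    have h2 : y * π (Nm y0 (7 ^ m) g) * y⁻¹ = π (Nm y0 (7 ^ m) g) := by
      have e1 := Nm_shift y0 (7 ^ m) g
      have e2 : Nm y0 (7 ^ m + 1) g = Nm y0 (7 ^ m) g * (y0 ^ 7 ^ m * g * (y0 ^ 7 ^ m)⁻¹) := rfl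
      rw [e2] at e1
      have e3 := congrArg π e1
      rw [map_mul, map_mul π g, (hconj g hg (7 ^ m)).2, hn7, one_mul, inv_one, mul_one] at e3
      have e4 : π (y0 * Nm y0 (7 ^ m) g * y0⁻¹) = y * π (Nm y0 (7 ^ m) g) * y⁻¹ := by
        rw [map_mul, map_mul, map_inv, hy0]
      rw [e4, hDc _ h1 _ hg] at e3
      exact (mul_left_cancel e3).symm
    have h3 : ∀ k : ℕ, y ^ k * π (Nm y0 (7 ^ m) g) * (y ^ k)⁻¹ = π (Nm y0 (7 ^ m) g) := by
      intro k
      induction k with
      | zero => simp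
      | succ k ih =>
        calc y ^ (k + 1) * π (Nm y0 (7 ^ m) g) * (y ^ (k + 1))⁻¹ =
            y * (y ^ k * π (Nm y0 (7 ^ m) g) * (y ^ k)⁻¹) * y⁻¹ := by rw [pow_succ']; group
          _ = _ := by rw [ih, h2]
    obtain ⟨d, hd, hd'⟩ := exists_notMem_finset hD {1, π (Nm y0 (7 ^ m) g)} (by
      have := Finset.card_le_two (a := (1 : S)) (b := π (Nm y0 (7 ^ m) g))
      omega)
    simp only [Finset.mem_insert, Finset.mem_singleton, not_or] at hd'
    obtain ⟨k, hk⟩ := hy.trans _ h1 hne _ hd hd'.1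
    rw [h3 k] at hk
    exact hd'.2 hk.symm
  have hodd : Odd (7 ^ m) := Odd.pow (by decide)
  have hpow1 : ∀ z : X, z * z = 1 → z ^ 7 ^ m = z := by
    intro z hz
    obtain ⟨k, hk⟩ := hodd
    rw [hk, pow_succ, pow_mul, sq, hz, one_pow, one_mul]
  -- the complement
  let D0 : Subgroup X :=
    { carrier := {g | π g ∈ D ∧ g * g = 1 ∧ Nm y0 (7 ^ m) g = 1}
      one_mem' := ⟨by rw [map_one]; exact one_mem _, one_mul 1, Nm_one _ _⟩
      mul_mem' := by
        rintro a b ⟨ha1, ha2, ha3⟩ ⟨hb1, hb2, hb3⟩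
        refine ⟨by rw [map_mul]; exact mul_mem ha1 hb1, ?_, ?_⟩
        · calc a * b * (a * b) = a * (b * a) * b := by group
            _ = a * (a * b) * b := by rw [hDh b hb1 a ha1]
            _ = (a * a) * (b * b) := by group
            _ = 1 := by rw [ha2, hb2, one_mul]
        · rw [Nm_mul hyDh (fun a ha b hb => hDh a ha b hb) ha1 hb1, ha3, hb3, one_mul]
      inv_mem' := by
        rintro a ⟨ha1, ha2, ha3⟩
        have : a⁻¹ = a := inv_eq_of_mul_eq_one_right ha2
        rw [this]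
        exact ⟨ha1, ha2, ha3⟩ }
  have hD0inj : ∀ d ∈ D0, π d = 1 → d = 1 := by
    rintro d ⟨-, hd2, hd3⟩ hd
    rw [Nm_central (hce d hd), hpow1 d hd2] at hd3
    exact hd3
  have hD0surj : ∀ d ∈ D, ∃ g ∈ D0, π g = d := by
    intro d hd
    obtain ⟨g, hg, hgg⟩ := hinv d hd
    have hgD : π g ∈ D := by rw [hg]; exact hd
    set z := Nm y0 (7 ^ m) g with hz
    have hzk : π z = 1 := hN g hgD
    have hzc := hce z hzk
    have hzD : π z ∈ D := by rw [hzk]; exact one_mem _
    have hzz : z * z = 1 := by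
      rw [hz, ← Nm_mul hyDh (fun a ha b hb => hDh a ha b hb) hgD hgD, hgg, Nm_one]
    refine ⟨g * z, ⟨?_, ?_, ?_⟩, ?_⟩
    · rw [map_mul, hzk, mul_one]; exact hgD
    · calc g * z * (g * z) = g * (z * g) * z := by group
        _ = g * (g * z) * z := by rw [hzc g]
        _ = (g * g) * (z * z) := by group
        _ = 1 := by rw [hgg, hzz, one_mul]
    · rw [Nm_mul hyDh (fun a ha b hb => hDh a ha b hb) hgD hzD, Nm_central hzc, hpow1 z hzz, ← hz, hzz]
    · rw [map_mul, hzk, mul_one, hg]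
  refine ⟨D0, y0, x0, ?_, fun d hd => hd.2.1, fun d hd => hd.1, hD0inj, hx0, ?_, ?_, ?_, m, ?_⟩
  · rw [← hD]
    refine Nat.card_congr (Equiv.ofBijective (fun d : D0 => (⟨π d, d.2.1⟩ : D)) ⟨?_, ?_⟩)
    · intro a b hab
      have h1 : π (a : X) = π (b : X) := congrArg Subtype.val hab
      have h2 : π ((a : X)⁻¹ * b) = 1 := by rw [map_mul, map_inv, h1]; group
      have h3 := hD0inj _ (mul_mem (inv_mem a.2) b.2) h2
      exact Subtype.ext (inv_mul_eq_one.1 h3)
    · intro d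
      obtain ⟨g, hg, hgd⟩ := hD0surj d.1 d.2
      exact ⟨⟨g, hg⟩, Subtype.ext hgd⟩
  · rintro d ⟨hd1, hd2, -⟩
    -- the commutator with `x0` is central of order dividing 2 and an odd number
    have h1 := hcm d x0 hd1 (by rw [hx0]; exact hxc _ hd1)
    set c := d * x0 * d⁻¹ * x0⁻¹ with hc
    have hcc := hce c h1.1
    have h2 : ∀ n : ℕ, d * x0 ^ n = c ^ n * (x0 ^ n * d) := by
      intro n
      induction n with
      | zero => simp
      | succ n ih =>
        calc d * x0 ^ (n + 1) = (d * x0 ^ n) * x0 := by rw [pow_succ]; group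
          _ = (c ^ n * (x0 ^ n * d)) * x0 := by rw [ih]
          _ = c ^ n * x0 ^ n * (d * x0) := by group
          _ = c ^ n * x0 ^ n * (c * (x0 * d)) := by rw [← h1.2.2]
          _ = c ^ n * (x0 ^ n * c) * (x0 * d) := by group
          _ = c ^ n * (c * x0 ^ n) * (x0 * d) := by rw [hcc]
          _ = _ := by rw [pow_succ, pow_succ]; group
    have h3 := h2 (orderOf x)
    have h4 : π (x0 ^ orderOf x) = 1 := by rw [map_pow, hx0, pow_orderOf_eq_one]
    have h5 := hce _ h4 d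
    rw [← h5] at h3
    have h6 : c ^ orderOf x = 1 := (right_eq_mul.1 h3)
    obtain ⟨k, hk⟩ := hx
    rw [hk, pow_succ, pow_mul, sq, h1.2.1, one_pow, one_mul] at h6
    have h7 := h1.2.2
    rw [h6, one_mul] at h7
    exact h7
  · rintro d ⟨hd1, hd2, hd3⟩
    refine ⟨hyD d hd1, ?_, ?_⟩
    · calc y0 * d * y0⁻¹ * (y0 * d * y0⁻¹) = y0 * (d * d) * y0⁻¹ := by group
        _ = 1 := by rw [hd2]; group
    · rw [Nm_conj, hd3]; group
  · rintro a ha ha1 b hb hb1
    have h1 : π a ≠ 1 := fun h => ha1 (hD0inj a ha h)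
    have h2 : π b ≠ 1 := fun h => hb1 (hD0inj b hb h)
    obtain ⟨k, hk⟩ := hy.trans _ ha.1 h1 _ hb.1 h2
    refine ⟨k, ?_⟩
    have hyD0 : ∀ h ∈ D0, y0 * h * y0⁻¹ ∈ D0 := by
      rintro d ⟨hd1, hd2, hd3⟩
      refine ⟨hyD d hd1, ?_, ?_⟩
      · calc y0 * d * y0⁻¹ * (y0 * d * y0⁻¹) = y0 * (d * d) * y0⁻¹ := by group
          _ = 1 := by rw [hd2]; group
      · rw [Nm_conj, hd3]; group
    have h3 : y0 ^ k * a * (y0 ^ k)⁻¹ ∈ D0 := (Nm_mem hyD0 ha k).2
    have h4 : π ((y0 ^ k * a * (y0 ^ k)⁻¹)⁻¹ * b) = 1 := by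
      rw [map_mul, map_inv, (hconj a ha.1 k).2, hk]; group
    exact inv_mul_eq_one.1 (hD0inj _ (mul_mem (inv_mem h3) hb) h4)
  · intro d
    apply hce
    rw [map_pow, hy0, hn7]

end Lift

end Cfsg.Agent.H544.KKL
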